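import Groth.Agent.Lib.Hens.Misc
import Mathlib.RingTheory.Filtration
import Mathlib.RingTheory.HopkinsLevitzki

/-!
# Separated filtrations on finite modules over complete local rings (Chevalley)
-/

set_option autoImplicit false
universe u v

open IsLocalRing

namespace Groth.Agent.LunaTop28

variable {B : Type u} [CommRing B] [IsLocalRing B] [IsNoetherianRing B]
  {M : Type v} [AddCommGroup M] [Module B M] [Module.Finite B M]

local notation "𝔮" => maximalIdeal B

theorem mem_of_forall_mem_sup_pow (L : Submodule B M) (x : M)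
    (h : ∀ j : ℕ, x ∈ L ⊔ 𝔮 ^ j • (⊤ : Submodule B M)) : x ∈ L := by
  rw [← Submodule.Quotient.mk_eq_zero, ← Submodule.mem_bot B,
    ← Ideal.iInf_pow_smul_eq_bot_of_isLocalRing (M := M ⧸ L) (maximalIdeal B)
      (IsLocalRing.maximalIdeal.isMaximal B).ne_top, Submodule.mem_iInf]
  intro j
  have := Submodule.mem_map_of_mem (f := L.mkQ) (h j)
  rwa [Submodule.map_sup, Submodule.mkQ_map_self, bot_sup_eq, Submodule.map_smul'', Submodule.map_top,
    Submodule.range_mkQ] at this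

theorem exists_stable (F : ℕ → Submodule B M) (hF : Antitone F) (j : ℕ) :
    ∃ n, ∀ m, n ≤ m → F n ⊔ 𝔮 ^ j • ⊤ ≤ F m ⊔ 𝔮 ^ j • ⊤ := by
  haveI : IsArtinianRing (B ⧸ 𝔮 ^ j) := by
    rcases subsingleton_or_nontrivial (B ⧸ 𝔮 ^ j) with h | h
    · infer_instance
    · haveI : IsLocalRing (B ⧸ 𝔮 ^ j) :=
        .of_surjective' (Ideal.Quotient.mk _) Ideal.Quotient.mk_surjective
      rw [isArtinianRing_iff_isNilpotent_maximalIdeal]
      refine ⟨j, ?_⟩
      rw [← IsLocalRing.map_maximalIdeal_of_surjective (Ideal.Quotient.mk (𝔮 ^ j))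
        Ideal.Quotient.mk_surjective, ← Ideal.map_pow, Ideal.map_quotient_self, Ideal.zero_eq_bot]
  haveI : Module.Finite (B ⧸ 𝔮 ^ j) (M ⧸ (𝔮 ^ j • ⊤ : Submodule B M)) :=
    Module.Finite.of_restrictScalars_finite B _ _
  haveI : IsArtinian (B ⧸ 𝔮 ^ j) (M ⧸ (𝔮 ^ j • ⊤ : Submodule B M)) := isArtinian_of_fg_of_artinian'
  haveI : IsArtinian B (M ⧸ (𝔮 ^ j • ⊤ : Submodule B M)) :=
    isArtinian_of_surjective_algebraMap (R := B ⧸ 𝔮 ^ j) Ideal.Quotient.mk_surjective
  obtain ⟨n, hn⟩ := IsArtinian.monotone_stabilizes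
    ⟨fun i => OrderDual.toDual ((F i).map (𝔮 ^ j • ⊤ : Submodule B M).mkQ),
      fun a b hab => Submodule.map_mono (hF hab)⟩
  refine ⟨n, fun m hm => ?_⟩
  have e : (F n).map (𝔮 ^ j • ⊤ : Submodule B M).mkQ = (F m).map (𝔮 ^ j • ⊤ : Submodule B M).mkQ :=
    hn m hm
  have := congrArg (Submodule.comap (𝔮 ^ j • ⊤ : Submodule B M).mkQ) e
  rw [Submodule.comap_map_eq, Submodule.comap_map_eq, Submodule.ker_mkQ] at this
  exact this.le

variable [IsAdicComplete (maximalIdeal B) B]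

theorem exists_limit (x : ℕ → M) (hx : ∀ n, x (n + 1) - x n ∈ 𝔮 ^ n • (⊤ : Submodule B M)) :
    ∃ y : M, ∀ n, y - x n ∈ 𝔮 ^ n • (⊤ : Submodule B M) := by
  obtain ⟨r, π, hπ⟩ := Module.Finite.exists_fin' B M
  haveI : IsAdicComplete (maximalIdeal B) (Fin r → B) := Hens.isAdicComplete_of_finite_projective _ _
  have hmap : ∀ n, (𝔮 ^ n • ⊤ : Submodule B (Fin r → B)).map π = 𝔮 ^ n • ⊤ := fun n => by
    rw [Submodule.map_smul'', Submodule.map_top, LinearMap.range_eq_top.mpr hπ]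
  choose d hd hd' using fun n => (hmap n).symm.le (hx n)
  obtain ⟨z₀, hz₀⟩ := hπ (x 0)
  let z : ℕ → (Fin r → B) := fun n => n.rec z₀ fun i zi => zi + d i
  have hz : ∀ n, π (z n) = x n := by
    intro n
    induction n with
    | zero => exact hz₀
    | succ i ih => show π (z i + d i) = _; rw [map_add, ih, hd' i, add_sub_cancel]
  have hsucc : ∀ n i, z (n + i) - z n ∈ (𝔮 ^ n • ⊤ : Submodule B (Fin r → B)) := by
    intro n i
    induction i with
    | zero => simp
    | succ i ih =>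
      have : z (n + (i + 1)) - z n = (z (n + i) - z n) + d (n + i) := by
        show z (n + i) + d (n + i) - z n = _
        abel
      rw [this]
      exact add_mem ih (Submodule.pow_smul_top_le _ _ (Nat.le_add_right n i) (hd (n + i)))
  obtain ⟨L, hL⟩ := IsPrecomplete.prec (I := maximalIdeal B) inferInstance (f := z) (fun {m n} hmn => by
    obtain ⟨i, rfl⟩ := Nat.exists_eq_add_of_le hmn
    exact (SModEq.sub_mem.mpr (hsucc m i)).symm)
  refine ⟨π L, fun n => ?_⟩
  rw [← hz n, ← map_sub, ← hmap n]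
  exact Submodule.mem_map_of_mem (SModEq.sub_mem.mp (hL n).symm)

/-- **Chevalley's lemma**. -/
theorem chevalley (F : ℕ → Submodule B M) (hF : Antitone F) (h0 : ∀ x, (∀ n, x ∈ F n) → x = 0)
    (j : ℕ) : ∃ n, F n ≤ 𝔮 ^ j • ⊤ := by
  choose N hN using exists_stable F hF
  refine ⟨N j, fun y hy => ?_⟩
  have step : ∀ i (w : M), w ∈ F (N i) ⊔ 𝔮 ^ i • ⊤ →
      ∃ w' ∈ F (N (i + 1)) ⊔ 𝔮 ^ (i + 1) • ⊤, w' - w ∈ 𝔮 ^ i • (⊤ : Submodule B M) := by
    intro i w hw
    obtain ⟨f, hf, g, hg, rfl⟩ := Submodule.mem_sup.mp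
      ((hN i (max (N i) (N (i + 1))) (le_max_left _ _)) hw)
    refine ⟨f, Submodule.mem_sup_left (hF (le_max_right _ _) hf), ?_⟩
    rw [sub_add_cancel_left]
    exact neg_mem hg
  choose! g hg hg' using step
  let z : ℕ → M := fun i => i.rec y fun i zi => g (j + i) zi
  have hz : ∀ i, z i ∈ F (N (j + i)) ⊔ 𝔮 ^ (j + i) • ⊤ := by
    intro i
    induction i with
    | zero => exact Submodule.mem_sup_left hy
    | succ i ih => exact hg (j + i) (z i) ih
  have hzz : ∀ i, z (i + 1) - z i ∈ 𝔮 ^ (j + i) • (⊤ : Submodule B M) := fun i => hg' (j + i) (z i) (hz i)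
  obtain ⟨L, hL⟩ := exists_limit z
    fun i => Submodule.pow_smul_top_le _ _ (Nat.le_add_left i j) (hzz i)
  have hL0 : L = 0 := by
    refine h0 L fun n => mem_of_forall_mem_sup_pow _ _ fun l => ?_
    have h1 : z l ∈ F n ⊔ 𝔮 ^ l • ⊤ := by
      have h2 := hN (j + l) (max n (N (j + l))) (le_max_right _ _) (hz l)
      exact sup_le_sup (hF (le_max_left _ _))
        (Submodule.pow_smul_top_le _ _ (Nat.le_add_left l j)) h2
    rw [show L = (L - z l) + z l by abel]
    exact add_mem (Submodule.mem_sup_right (hL l)) h1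
  have hy0 : ∀ i, z i - y ∈ 𝔮 ^ j • (⊤ : Submodule B M) := by
    intro i
    induction i with
    | zero => simp [z]
    | succ i ih =>
      rw [show z (i + 1) - y = (z (i + 1) - z i) + (z i - y) by abel]
      exact add_mem (Submodule.pow_smul_top_le _ _ (Nat.le_add_right j i) (hzz i)) ih
  have := sub_mem (hL j) (neg_mem (hy0 j))
  rw [hL0] at this
  simpa using neg_mem this

end Groth.Agent.LunaTop28
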