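import Groth.Agent.Lib.LunaTop28.Adic
import Groth.Agent.Lib.HopfMod.Ideal
import Groth.Agent.Lib.CoalgH23.Reynolds
import Groth.Agent.Lib.HopfMod.Basic
import Groth.Prelude.Def_W4c1tameactTame

/-!
# Invariants of coherent equivariant modules over a complete local invariant ring
-/

set_option autoImplicit false
set_option linter.unusedSectionVars false
set_option linter.style.haveILetI false
universe u v w w'

open TensorProduct HopfRep Groth.Agent.Comodule IsLocalRing Groth.Agent.CoalgH23

namespace Groth.Agent.LunaTop28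

variable {k : Type u} [Field k] {H : Type v} [CommRing H] [HopfAlgebra k H]
  {A : Type w} [CommRing A] [Algebra k A] [Comod k H A] [GLin.IsCoactAlg k H A]
  {M : Type w'} [AddCommGroup M] [Module k M] [Module A M] [IsScalarTower k A M]
  [Comod k H M] [TameAct.IsHopfMod k H A M]

theorem fixed_smul (b : (GLin.invariants k H A)) {m : M} (hm : m ∈ fixedPts k H M) : (b : A) • m ∈ fixedPts k H M := by
  show Comod.coact (k := k) (A := H) ((b : A) • m) = _
  rw [HopfMod.coact_smul_fixed (b : A) hm,
    show Comod.coact (k := k) (A := H) (b : A) = (b : A) ⊗ₜ[k] (1 : H) from b.2]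
  rfl

variable (k H A M) in
/-- Fixed vectors as a module over the invariants. -/
def fix : Submodule (GLin.invariants k H A) M where
  carrier := fixedPts k H M
  add_mem' := fun ha hb => (fixedPts k H M).add_mem ha hb
  zero_mem' := (fixedPts k H M).zero_mem
  smul_mem' := fun b _ hm => fixed_smul b hm

theorem actL_smul_fixed (l : H →ₗ[k] k) (a : A) {m : M} (hm : m ∈ fixedPts k H M) :
    actL (V := M) l (a • m) = actL (V := A) l a • m := by
  show slice l _ = slice l _ • m
  rw [HopfMod.coact_smul_fixed a hm, slice_rTensor]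
  rfl

instance self_isHopfMod : TameAct.IsHopfMod k H A A where
  coact_smul b x := by
    rw [smul_eq_mul, GLin.IsCoactAlg.coact_mul]
    generalize Comod.coact (k := k) (A := H) b = y
    generalize Comod.coact (k := k) (A := H) x = z
    induction y with
    | zero => simp
    | add p q hp hq => simp only [add_mul, map_add, LinearMap.add_apply, hp, hq]
    | tmul a' h =>
      induction z with
      | zero => simp
      | add p q hp hq => simp only [mul_add, map_add, hp, hq]
      | tmul x' h' => simp [Algebra.TensorProduct.tmul_mul_tmul]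

theorem actL_mem (l : H →ₗ[k] k) {N : Submodule k M} (hN : IsSubcomod (k := k) (A := H) N) {x : M}
    (hx : x ∈ N) : actL l x ∈ N :=
  (HopfMod.mem_tens_iff N _).1 (hN _ hx) l

theorem actL_mem_ideal (l : H →ₗ[k] k) {I : Ideal A}
    (hI : IsSubcomod (k := k) (A := H) (I.restrictScalars k)) {x : A}
    (hx : x ∈ I) : actL l x ∈ I :=
  (HopfMod.mem_tens_iff _ _).1 (hI _ hx) l

theorem isNoetherian_fix {l : H →ₗ[k] k} (h1 : l 1 = 1) (hl : IsRightInv l) [IsNoetherian A M] :
    IsNoetherian (GLin.invariants k H A) (fix k H A M) := by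
  have key : ∀ (L : Submodule (GLin.invariants k H A) (fix k H A M)) (y : fix k H A M),
      (y : M) ∈ Submodule.span A (((↑) : fix k H A M → M) '' L) → y ∈ L := by
    intro L y hy
    suffices h : ∀ z ∈ Submodule.span A (((↑) : fix k H A M → M) '' (L : Set (fix k H A M))), ∀ a : A,
        ∃ w ∈ L, (w : M) = actL l (a • z) by
      obtain ⟨w, hw, e⟩ := h _ hy 1
      rw [one_smul, actL_of_fixed h1 y.2] at e
      exact Subtype.ext e ▸ hw
    intro z hz
    induction hz using Submodule.span_induction with
    | mem z hz =>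
      obtain ⟨w, hw, rfl⟩ := hz
      intro a
      exact ⟨(⟨actL l a, actL_mem_fixedPts hl a⟩ : (GLin.invariants k H A)) • w, L.smul_mem _ hw,
        (actL_smul_fixed l a w.2).symm⟩
    | zero => exact fun a => ⟨0, L.zero_mem, by simp⟩
    | add p q _ _ hp hq =>
      intro a
      obtain ⟨w, hw, e⟩ := hp a
      obtain ⟨w', hw', e'⟩ := hq a
      exact ⟨w + w', L.add_mem hw hw', by rw [smul_add, map_add, ← e, ← e']; rfl⟩
    | smul c p _ hp => exact fun a => by simpa [smul_smul] using hp (a * c)
  let Φ : Submodule (GLin.invariants k H A) (fix k H A M) → Submodule A M :=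
    fun L => Submodule.span A (((↑) : fix k H A M → M) '' L)
  have hmono : StrictMono Φ := by
    intro L L' hlt
    refine (Submodule.span_mono (Set.image_mono hlt.le)).lt_of_ne fun e => hlt.ne ?_
    refine le_antisymm hlt.le fun y hy => key L y ?_
    have : (y : M) ∈ Φ L' := Submodule.subset_span ⟨y, hy, rfl⟩
    rw [show Φ L' = Φ L from e.symm] at this
    exact this
  exact isNoetherian_iff'.mpr hmono.wellFoundedGT

theorem isSubcomod_pow_smul {m : Ideal A} (hm : IsSubcomod (k := k) (A := H) (m.restrictScalars k)) :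
    ∀ n : ℕ, IsSubcomod (k := k) (A := H) ((m ^ n • ⊤ : Submodule A M).restrictScalars k)
  | 0 => by
    intro v _
    show Comod.coact (k := k) (A := H) v ∈ tens H _
    refine (HopfMod.mem_tens_iff _ _).2 fun g => ?_
    rw [Submodule.restrictScalars_mem, pow_zero, Ideal.one_eq_top, Submodule.top_smul]
    exact Submodule.mem_top
  | n + 1 => by
    have ih := isSubcomod_pow_smul hm n
    intro v hv
    show Comod.coact (k := k) (A := H) v ∈ tens H _
    rw [Submodule.restrictScalars_mem, pow_succ', Submodule.mul_smul] at hv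
    refine Submodule.smul_induction_on hv (fun a ha x hx => ?_) (fun p q hp hq => ?_)
    · rw [TameAct.IsHopfMod.coact_smul (k := k) (A := H) a x]
      obtain ⟨y, hy⟩ := hm _ ha
      obtain ⟨z, hz⟩ := ih _ hx
      rw [← hy, ← hz]
      clear hy hz
      induction y with
      | zero => simp
      | add p q hp hq => simp only [map_add, LinearMap.add_apply]; exact add_mem hp hq
      | tmul a' h =>
        induction z with
        | zero => simp
        | add p q hp hq => simp only [map_add]; exact add_mem hp hq
        | tmul x' h' =>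
          rw [LinearMap.rTensor_tmul, LinearMap.rTensor_tmul, TameAct.hmSMul_tmul]
          refine tmul_mem_tens ?_ _
          rw [Submodule.restrictScalars_mem, pow_succ', Submodule.mul_smul]
          exact Submodule.smul_mem_smul a'.2 x'.2
    · rw [map_add]; exact add_mem hp hq

variable {m : Ideal A} [m.IsMaximal] [IsLocalRing (GLin.invariants k H A)] {l : H →ₗ[k] k}

/-- A stable maximal ideal contracts to the maximal ideal of the invariants. -/
theorem mem_maximalIdeal_iff (h1 : l 1 = 1) (hl : IsRightInv l)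
    (hm : IsSubcomod (k := k) (A := H) (m.restrictScalars k)) (b : (GLin.invariants k H A)) :
    b ∈ maximalIdeal (GLin.invariants k H A) ↔ (b : A) ∈ m := by
  let q : Ideal (GLin.invariants k H A) := m.comap (algebraMap (GLin.invariants k H A) A)
  have hq : q.IsMaximal := by
    rw [Ideal.isMaximal_iff]
    refine ⟨fun h => Ideal.IsMaximal.ne_top ‹_› (m.eq_top_iff_one.mpr h), fun J x hJ hxq hxJ => ?_⟩
    obtain ⟨a, i, hi, e⟩ := Ideal.IsMaximal.exists_inv ‹_› (show (x : A) ∉ m from hxq)
    have hone : actL l (1 : A) = 1 := actL_of_fixed h1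
      (show Comod.coact (k := k) (A := H) (1 : A) = _ from GLin.IsCoactAlg.coact_one)
    have h := congrArg (actL (V := A) l) e
    rw [map_add, hone, show a * (x : A) = a • (x : A) from rfl, actL_smul_fixed l a (m := (x : A)) x.2] at h
    have e' : (1 : (GLin.invariants k H A)) = (⟨actL l a, actL_mem_fixedPts hl a⟩ : (GLin.invariants k H A)) * x +
        ⟨actL l i, actL_mem_fixedPts hl i⟩ := Subtype.ext h.symm
    rw [e']
    exact J.add_mem (J.mul_mem_left _ hxJ) (hJ (actL_mem_ideal l hm hi))
  rw [← IsLocalRing.eq_maximalIdeal hq]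
  rfl

variable [IsNoetherianRing A] [Module.Finite A M]

theorem eq_zero_of_forall_mem (h1 : l 1 = 1) (hl : IsRightInv l)
    (hm : IsSubcomod (k := k) (A := H) (m.restrictScalars k)) {x : M} (hx : x ∈ fixedPts k H M)
    (h : ∀ n : ℕ, x ∈ (m ^ n • ⊤ : Submodule A M)) : x = 0 := by
  obtain ⟨⟨r, hr⟩, hrx⟩ := (Ideal.mem_iInf_smul_pow_eq_bot_iff m x).mp (Submodule.mem_iInf _ |>.mpr h)
  have h2 := congrArg (actL (V := M) l) hrx
  rw [actL_smul_fixed l r hx, actL_of_fixed h1 hx] at h2
  let b : (GLin.invariants k H A) := ⟨actL l r, actL_mem_fixedPts hl r⟩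
  have hb : b ∈ maximalIdeal (GLin.invariants k H A) := (mem_maximalIdeal_iff h1 hl hm b).mpr (actL_mem_ideal l hm hr)
  obtain ⟨u, hu⟩ := IsLocalRing.isUnit_one_sub_self_of_mem_nonunits b hb
  have h3 : ((1 - b : (GLin.invariants k H A)) : A) • x = 0 := by
    rw [AddSubgroupClass.coe_sub, sub_smul, OneMemClass.coe_one, one_smul]
    exact sub_eq_zero.mpr h2.symm
  calc x = ((u⁻¹ : (GLin.invariants k H A)ˣ) : (GLin.invariants k H A)) • ((1 - b : (GLin.invariants k H A)) • x) := by rw [smul_smul, ← hu, Units.inv_mul, one_smul]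
    _ = 0 := by rw [show (1 - b : (GLin.invariants k H A)) • x = 0 from h3, smul_zero]

theorem exists_limit_fixed (h1 : l 1 = 1) (hl : IsRightInv l)
    (hm : IsSubcomod (k := k) (A := H) (m.restrictScalars k)) [IsNoetherianRing (GLin.invariants k H A)]
    [IsAdicComplete (maximalIdeal (GLin.invariants k H A)) (GLin.invariants k H A)] (x : ℕ → M) (hx : ∀ n, x n ∈ fixedPts k H M)
    (hxx : ∀ n, x (n + 1) - x n ∈ (m ^ n • ⊤ : Submodule A M)) :
    ∃ y ∈ fixedPts k H M, ∀ n, y - x n ∈ (m ^ n • ⊤ : Submodule A M) := by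
  haveI := isNoetherian_fix (A := A) (M := M) h1 hl
  haveI : Module.Finite (GLin.invariants k H A) (fix k H A M) := Module.IsNoetherian.finite _ _
  let F : ℕ → Submodule (GLin.invariants k H A) (fix k H A M) := fun n =>
    ((m ^ n • ⊤ : Submodule A M).restrictScalars (GLin.invariants k H A)).comap (fix k H A M).subtype
  have hF : Antitone F := fun a b hab =>
    Submodule.comap_mono (fun y hy => Submodule.pow_smul_top_le m M hab hy)
  have hq : ∀ n, (maximalIdeal (GLin.invariants k H A)) ^ n • (⊤ : Submodule (GLin.invariants k H A) (fix k H A M)) ≤ F n := by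
    intro n
    rw [Submodule.smul_le]
    intro r hr y _
    refine Submodule.smul_mem_smul (I := m ^ n) ?_ Submodule.mem_top
    have hle : maximalIdeal (GLin.invariants k H A) ≤ m.comap (algebraMap (GLin.invariants k H A) A) := fun b hb =>
      (mem_maximalIdeal_iff h1 hl hm b).mp hb
    exact (Ideal.pow_right_mono hle n).trans (Ideal.le_comap_pow (algebraMap (GLin.invariants k H A) A) n) hr
  choose N hN using chevalley F hF (fun y hy => Subtype.ext (eq_zero_of_forall_mem h1 hl hm y.2 hy))
  let z : ℕ → fix k H A M := fun n => ⟨x n, hx n⟩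
  have htail : ∀ n i, z (n + i) - z n ∈ F n := by
    intro n i
    induction i with
    | zero => simp
    | succ i ih =>
      rw [show z (n + (i + 1)) - z n = (z (n + i + 1) - z (n + i)) + (z (n + i) - z n) by
        rw [← Nat.add_assoc]; abel]
      exact add_mem (hF (Nat.le_add_right n i) (show _ ∈ F (n + i) from hxx (n + i))) ih
  let ν : ℕ → ℕ := fun j => j + (Finset.range (j + 1)).sup N
  have hν : ∀ j, N j ≤ ν j := fun j =>
    (Finset.le_sup (f := N) (Finset.self_mem_range_succ j)).trans (Nat.le_add_left _ _)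
  have hνm : ∀ j, ν j ≤ ν (j + 1) := fun j =>
    Nat.add_le_add (Nat.le_succ j) (Finset.sup_mono (Finset.range_mono (by omega)))
  obtain ⟨y, hy⟩ := exists_limit (fun j => z (ν j)) fun j => by
    obtain ⟨i, hi⟩ := Nat.exists_eq_add_of_le (hνm j)
    rw [hi]
    exact hN j (hF (hν j) (htail (ν j) i))
  refine ⟨y.1, y.2, fun n => ?_⟩
  obtain ⟨i, hi⟩ := Nat.exists_eq_add_of_le (show n ≤ ν n from Nat.le_add_right _ _)
  have h' : y - z n ∈ F n := by
    rw [show y - z n = (y - z (ν n)) + (z (ν n) - z n) by abel]
    refine add_mem (hq n (hy n)) ?_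
    rw [hi]
    exact htail n i
  exact h'

end Groth.Agent.LunaTop28
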